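import Groth.Agent.H45.Derived.WayOut

/-!
# Induction on the cohomological amplitude of bounded objects of the derived category
-/

open CategoryTheory Limits Pretriangulated

namespace Groth.Agent.H45

universe w₁ w₂ v₁ v₂ u₁ u₂

variable {𝒜 : Type u₁} [Category.{v₁} 𝒜] [Abelian 𝒜] [HasDerivedCategory.{w₁} 𝒜]
  {ℬ : Type u₂} [Category.{v₂} ℬ] [Abelian ℬ] [HasDerivedCategory.{w₂} ℬ]

open DerivedCategory

/-- Let `P` be a property of objects of `D(𝒜)` stable under isomorphisms and extensions, containing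
zero objects and the objects `M[-n]` for `M` satisfying `S`. Then `P` holds for bounded objects
with cohomology in `S`. -/
theorem bounded_induction (P : ObjectProperty (DerivedCategory 𝒜)) [P.IsClosedUnderIsomorphisms]
    (S : ObjectProperty 𝒜) [S.IsClosedUnderIsomorphisms]
    (hzero : ∀ Z : DerivedCategory 𝒜, IsZero Z → P Z)
    (htri : ∀ T : Triangle (DerivedCategory 𝒜), T ∈ distTriang _ → P T.obj₁ → P T.obj₃ → P T.obj₂)
    (hS : ∀ (M : 𝒜) (n : ℤ), S M → P ((singleFunctor 𝒜 n).obj M))
    (hS0 : ∀ M : 𝒜, IsZero M → S M) (k : ℕ) :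
    ∀ (Z : DerivedCategory 𝒜) (a : ℤ), Z.IsGE a → Z.IsLE (a + k - 1) →
      (∀ q : ℤ, S ((homologyFunctor 𝒜 q).obj Z)) → P Z := by
  induction k with
  | zero =>
    intro Z a hGE hLE _
    exact hzero Z (TStructure.t.isZero Z (a + (0 : ℕ) - 1) a (by simp))
  | succ k ih =>
    intro Z a hGE hLE hZ
    let n : ℤ := a + k
    have hLE' : Z.IsLE n := by
      have : a + ((k + 1 : ℕ) : ℤ) - 1 = n := by simp only [n]; omega
      rw [← this]
      exact hLE
    have hT := TStructure.t.triangleLTGE_distinguished n Z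
    -- the first object
    have h₁ : P ((TStructure.t.truncLT n).obj Z) := by
      apply ih _ a inferInstance
      · have : a + (k : ℤ) - 1 = n - 1 := by simp [n]
        rw [this]
        infer_instance
      · intro q
        by_cases hq : q < n
        · have := isIso_homologyMap_truncLTι Z n q hq
          exact S.prop_of_iso
            (asIso ((homologyFunctor 𝒜 q).map ((TStructure.t.truncLTι n).app Z))).symm (hZ q)
        · apply hS0
          exact isZero_of_isLE _ (n - 1) q (by lia)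
    -- the third object
    have h₃ : P ((TStructure.t.truncGE n).obj Z) := by
      obtain ⟨A, ⟨e⟩⟩ := exists_iso_singleFunctor_obj_of_isGE_of_isLE
        ((TStructure.t.truncGE n).obj Z) n
      have := isIso_homologyMap_truncGEπ Z n n le_rfl
      have eA : (homologyFunctor 𝒜 n).obj Z ≅ A :=
        asIso ((homologyFunctor 𝒜 n).map ((TStructure.t.truncGEπ n).app Z)) ≪≫
          (homologyFunctor 𝒜 n).mapIso e ≪≫ (singleFunctorCompHomologyFunctorIso 𝒜 n).app A
      exact P.prop_of_iso e.symm (hS A n (S.prop_of_iso eA (hZ n)))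
    exact htri _ hT h₁ h₃

/-- Bounded objects: existence of bounds `a` and `k`. -/
theorem bounded_induction' (P : ObjectProperty (DerivedCategory 𝒜)) [P.IsClosedUnderIsomorphisms]
    (S : ObjectProperty 𝒜) [S.IsClosedUnderIsomorphisms]
    (hzero : ∀ Z : DerivedCategory 𝒜, IsZero Z → P Z)
    (htri : ∀ T : Triangle (DerivedCategory 𝒜), T ∈ distTriang _ → P T.obj₁ → P T.obj₃ → P T.obj₂)
    (hS : ∀ (M : 𝒜) (n : ℤ), S M → P ((singleFunctor 𝒜 n).obj M))
    (hS0 : ∀ M : 𝒜, IsZero M → S M)
    (Z : DerivedCategory 𝒜) (a b : ℤ) (hGE : Z.IsGE a) (hLE : Z.IsLE b)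
    (hZ : ∀ q : ℤ, S ((homologyFunctor 𝒜 q).obj Z)) : P Z := by
  obtain ⟨k, hk⟩ : ∃ k : ℕ, b ≤ a + k - 1 := ⟨(b + 1 - a).toNat, by lia⟩
  exact bounded_induction P S hzero htri hS hS0 k Z a hGE
    (TStructure.t.isLE_of_le _ b _ hk) hZ

/-- For a left t-exact triangulated functor `G`, the map `H^j(G(τ_{<n} X)) ⟶ H^j(G X)` is an
isomorphism when `j + 2 ≤ n`. -/
lemma isIso_homologyMap_map_truncLTι (G : DerivedCategory 𝒜 ⥤ DerivedCategory ℬ) [G.CommShift ℤ]
    [G.IsTriangulated] (hG : LeftTExact G) (X : DerivedCategory 𝒜) (j n : ℤ) (hjn : j + 2 ≤ n) :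
    IsIso ((homologyFunctor ℬ j).map (G.map ((TStructure.t.truncLTι n).app X))) := by
  have hT := TStructure.t.triangleLTGE_distinguished n X
  have hGT := G.map_distinguished _ hT
  have : (G.obj ((TStructure.t.truncGE n).obj X)).IsGE n := hG _ n inferInstance
  exact isIso_homologyMap_mor₁ _ hGT (j - 1) j (by lia)
    (isZero_of_isGE (G.obj ((TStructure.t.truncGE n).obj X)) n (j - 1) (by lia))
    (isZero_of_isGE (G.obj ((TStructure.t.truncGE n).obj X)) n j (by lia))

end Groth.Agent.H45
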