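import Mathlib.Algebra.Homology.DerivedCategory.TStructure
import Mathlib.Algebra.Homology.DerivedCategory.HomologySequence
import Mathlib.CategoryTheory.Triangulated.TStructure.TruncLEGT

/-!
# Homology of truncations in the derived category
-/

open CategoryTheory Limits Pretriangulated

namespace Groth.Agent.H45

universe w v u

variable {𝒜 : Type u} [Category.{v} 𝒜] [Abelian 𝒜] [HasDerivedCategory.{w} 𝒜]

open DerivedCategory

/-- In a distinguished triangle, `H^j` of the first map is an isomorphism when the third object has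
no cohomology in degrees `j - 1` and `j`. -/
lemma isIso_homologyMap_mor₁ (T : Triangle (DerivedCategory 𝒜)) (hT : T ∈ distTriang _)
    (j₀ j : ℤ) (hj : j₀ + 1 = j)
    (h₁ : IsZero ((homologyFunctor 𝒜 j₀).obj T.obj₃))
    (h₂ : IsZero ((homologyFunctor 𝒜 j).obj T.obj₃)) :
    IsIso ((homologyFunctor 𝒜 j).map T.mor₁) := by
  have hm : Mono ((homologyFunctor 𝒜 j).map T.mor₁) :=
    (HomologySequence.mono_homologyMap_mor₁_iff T hT j₀ j hj).2 (h₁.eq_of_src _ _)
  have he : Epi ((homologyFunctor 𝒜 j).map T.mor₁) :=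
    (HomologySequence.epi_homologyMap_mor₁_iff T hT j).2 (h₂.eq_of_tgt _ _)
  exact isIso_of_mono_of_epi _

/-- In a distinguished triangle, `H^j` of the second map is an isomorphism when the first object
has no cohomology in degrees `j` and `j + 1`. -/
lemma isIso_homologyMap_mor₂ (T : Triangle (DerivedCategory 𝒜)) (hT : T ∈ distTriang _)
    (j j₁ : ℤ) (hj : j + 1 = j₁)
    (h₁ : IsZero ((homologyFunctor 𝒜 j).obj T.obj₁))
    (h₂ : IsZero ((homologyFunctor 𝒜 j₁).obj T.obj₁)) :
    IsIso ((homologyFunctor 𝒜 j).map T.mor₂) := by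
  have hm : Mono ((homologyFunctor 𝒜 j).map T.mor₂) :=
    (HomologySequence.mono_homologyMap_mor₂_iff T hT j).2 (h₁.eq_of_src _ _)
  have he : Epi ((homologyFunctor 𝒜 j).map T.mor₂) :=
    (HomologySequence.epi_homologyMap_mor₂_iff T hT j j₁ hj).2 (h₂.eq_of_tgt _ _)
  exact isIso_of_mono_of_epi _

/-- `H^q(τ_{<n} X) ⟶ H^q(X)` is an isomorphism for `q < n`. -/
lemma isIso_homologyMap_truncLTι (X : DerivedCategory 𝒜) (n q : ℤ) (hq : q < n) :
    IsIso ((homologyFunctor 𝒜 q).map ((TStructure.t.truncLTι n).app X)) := by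
  have hT := TStructure.t.triangleLTGE_distinguished n X
  have : ((TStructure.t.triangleLTGE n).obj X).obj₃.IsGE n := inferInstance
  exact isIso_homologyMap_mor₁ _ hT (q - 1) q (by lia)
    (isZero_of_isGE _ n (q - 1) (by lia)) (isZero_of_isGE _ n q hq)

/-- `H^q(X) ⟶ H^q(τ_{≥n} X)` is an isomorphism for `n ≤ q`. -/
lemma isIso_homologyMap_truncGEπ (X : DerivedCategory 𝒜) (n q : ℤ) (hq : n ≤ q) :
    IsIso ((homologyFunctor 𝒜 q).map ((TStructure.t.truncGEπ n).app X)) := by
  have hT := TStructure.t.triangleLTGE_distinguished n X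
  have : ((TStructure.t.triangleLTGE n).obj X).obj₁.IsLE (n - 1) := inferInstance
  exact isIso_homologyMap_mor₂ _ hT q (q + 1) rfl
    (isZero_of_isLE _ (n - 1) q (by lia)) (isZero_of_isLE _ (n - 1) (q + 1) (by lia))

end Groth.Agent.H45
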