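import Groth.Agent.H45.Derived.WayOut
import Mathlib.Algebra.Homology.DerivedCategory.ExactFunctor
import Mathlib.Algebra.Homology.DerivedCategory.TStructure
import Mathlib.CategoryTheory.Triangulated.Adjunction
import Mathlib.CategoryTheory.Shift.Adjunction

/-!
# t-exactness of `F.mapDerivedCategory`, and left t-exactness of right adjoints
-/

open CategoryTheory Limits Pretriangulated

namespace Groth.Agent.H45

universe w₁ w₂ v₁ v₂ u₁ u₂

variable {𝒜 : Type u₁} [Category.{v₁} 𝒜] [Abelian 𝒜] [HasDerivedCategory.{w₁} 𝒜]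
  {ℬ : Type u₂} [Category.{v₂} ℬ] [Abelian ℬ] [HasDerivedCategory.{w₂} ℬ]

open DerivedCategory

section MapDerived

variable (F : 𝒜 ⥤ ℬ) [F.Additive] [PreservesFiniteLimits F] [PreservesFiniteColimits F]

lemma isLE_mapDerivedCategory_obj (X : DerivedCategory 𝒜) (n : ℤ) (hX : X.IsLE n) :
    (F.mapDerivedCategory.obj X).IsLE n := by
  obtain ⟨K, hK, ⟨e⟩⟩ := X.exists_iso_Q_obj_of_isLE n
  have e' : F.mapDerivedCategory.obj X ≅ Q.obj ((F.mapHomologicalComplex _).obj K) :=
    F.mapDerivedCategory.mapIso e ≪≫ F.mapDerivedCategoryFactors.app K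
  have : CochainComplex.IsStrictlyLE ((F.mapHomologicalComplex (ComplexShape.up ℤ)).obj K) n := by
    rw [CochainComplex.isStrictlyLE_iff]
    intro i hi
    exact F.map_isZero (K.isZero_of_isStrictlyLE n i hi)
  exact TStructure.t.isLE_of_iso e'.symm n

lemma isGE_mapDerivedCategory_obj (X : DerivedCategory 𝒜) (n : ℤ) (hX : X.IsGE n) :
    (F.mapDerivedCategory.obj X).IsGE n := by
  obtain ⟨K, hK, ⟨e⟩⟩ := X.exists_iso_Q_obj_of_isGE n
  have e' : F.mapDerivedCategory.obj X ≅ Q.obj ((F.mapHomologicalComplex _).obj K) :=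
    F.mapDerivedCategory.mapIso e ≪≫ F.mapDerivedCategoryFactors.app K
  have : CochainComplex.IsStrictlyGE ((F.mapHomologicalComplex (ComplexShape.up ℤ)).obj K) n := by
    rw [CochainComplex.isStrictlyGE_iff]
    intro i hi
    exact F.map_isZero (K.isZero_of_isStrictlyGE n i hi)
  exact TStructure.t.isGE_of_iso e'.symm n

lemma leftTExact_mapDerivedCategory : LeftTExact F.mapDerivedCategory :=
  fun X n hX => isGE_mapDerivedCategory_obj F X n hX

end MapDerived

section Adjoint

variable {L : DerivedCategory 𝒜 ⥤ DerivedCategory ℬ} {R : DerivedCategory ℬ ⥤ DerivedCategory 𝒜}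

/-- The right adjoint of a right t-exact functor is left t-exact. -/
lemma leftTExact_of_adjunction (adj : L ⊣ R)
    (hL : ∀ (X : DerivedCategory 𝒜) (n : ℤ), X.IsLE n → (L.obj X).IsLE n) : LeftTExact R := by
  intro Y n hY
  show TStructure.t.IsGE (R.obj Y) n
  rw [TStructure.t.isGE_iff_orthogonal (n - 1) n (by lia)]
  intro X g hX
  have hLX := hL X (n - 1) hX
  have : (adj.homEquiv X Y).symm g = 0 :=
    TStructure.t.zero_of_isLE_of_isGE _ (n - 1) n (by lia) hLX hY
  have h2 := congrArg (adj.homEquiv X Y) this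
  rw [Equiv.apply_symm_apply] at h2
  rw [h2]
  haveI : R.IsRightAdjoint := adj.isRightAdjoint
  simp [Adjunction.homEquiv_unit]

end Adjoint

lemma leftTExact_id : LeftTExact (𝟭 (DerivedCategory 𝒜)) := fun _ _ h => h

lemma LeftTExact.comp {𝒞 : Type*} [Category 𝒞] [Abelian 𝒞] [HasDerivedCategory 𝒞]
    {G : DerivedCategory 𝒜 ⥤ DerivedCategory ℬ} {H : DerivedCategory ℬ ⥤ DerivedCategory 𝒞}
    (hG : LeftTExact G) (hH : LeftTExact H) : LeftTExact (G ⋙ H) :=
  fun X n hX => hH _ n (hG X n hX)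

end Groth.Agent.H45
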