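import Groth.Agent.H45.Derived.TExact
import Mathlib.Algebra.Homology.ShortComplex.ExactFunctor
import Mathlib.Algebra.Homology.DerivedCategory.HomologySequence

/-!
# Cohomology of `F.mapDerivedCategory` for an exact functor `F`
-/

open CategoryTheory Limits Pretriangulated

namespace Groth.Agent.H45

universe w₁ w₂ v₁ v₂ u₁ u₂

variable {𝒜 : Type u₁} [Category.{v₁} 𝒜] [Abelian 𝒜] [HasDerivedCategory.{w₁} 𝒜]
  {ℬ : Type u₂} [Category.{v₂} ℬ] [Abelian ℬ] [HasDerivedCategory.{w₂} ℬ]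

open DerivedCategory

variable (F : 𝒜 ⥤ ℬ) [F.Additive] [PreservesFiniteLimits F] [PreservesFiniteColimits F]

/-- `H^i(F X) ≅ F(H^i X)` for an exact functor `F`. -/
noncomputable def homologyMapDerivedCategoryObjIso (X : DerivedCategory 𝒜) (i : ℤ) :
    (homologyFunctor ℬ i).obj (F.mapDerivedCategory.obj X) ≅
      F.obj ((homologyFunctor 𝒜 i).obj X) :=
  let K := Q.objPreimage X
  let e : Q.obj K ≅ X := Q.objObjPreimageIso X
  (homologyFunctor ℬ i).mapIso (F.mapDerivedCategory.mapIso e.symm) ≪≫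
    (homologyFunctor ℬ i).mapIso (F.mapDerivedCategoryFactors.app K) ≪≫
    (homologyFunctorFactors ℬ i).app ((F.mapHomologicalComplex _).obj K) ≪≫
    (K.sc i).mapHomologyIso F ≪≫
    F.mapIso ((homologyFunctorFactors 𝒜 i).app K).symm ≪≫
    F.mapIso ((homologyFunctor 𝒜 i).mapIso e)

end Groth.Agent.H45
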