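import Groth.Agent.H45.Derived.TExact
import Groth.Prelude.Def_WeakSerre

/-!
# Objects of the derived category with cohomology in a weak Serre subcategory
-/

open CategoryTheory Limits Pretriangulated

namespace Groth.Agent.H45

universe w₁ w₂ v₁ v₂ u₁ u₂

section FiveTerm

variable {𝒞 : Type u₁} [Category.{v₁} 𝒞] [Abelian 𝒞]

/-- The middle term of an exact five term sequence whose outer terms belong to a class closed under
kernels, cokernels and extensions belongs to this class. -/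
lemma prop_of_five_term (P : ObjectProperty 𝒞) [P.IsClosedUnderKernels]
    [P.IsClosedUnderCokernels] [P.IsClosedUnderExtensions]
    {A₁ A₂ B A₃ A₄ : 𝒞} (e : A₁ ⟶ A₂) (f : A₂ ⟶ B) (g : B ⟶ A₃) (h : A₃ ⟶ A₄)
    (w₁ : e ≫ f = 0) (w₂ : f ≫ g = 0) (w₃ : g ≫ h = 0)
    (h₁ : (ShortComplex.mk e f w₁).Exact) (h₂ : (ShortComplex.mk f g w₂).Exact)
    (h₃ : (ShortComplex.mk g h w₃).Exact)
    (p₁ : P A₁) (p₂ : P A₂) (p₃ : P A₃) (p₄ : P A₄) : P B := by
  let f' : cokernel e ⟶ B := cokernel.desc e f w₁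
  let g' : B ⟶ kernel h := kernel.lift h g w₃
  have hf' : Mono f' := h₁.mono_cokernelDesc
  have hg' : Epi g' := h₃.epi_kernelLift
  have w' : f' ≫ g = 0 := by
    rw [← cancel_epi (cokernel.π e)]
    simp [f', w₂]
  have w : f' ≫ g' = 0 := by
    rw [← cancel_mono (kernel.ι h)]
    simp [g', w']
  let φ₁ : ShortComplex.mk f g w₂ ⟶ ShortComplex.mk f' g w' :=
    { τ₁ := cokernel.π e
      τ₂ := 𝟙 _
      τ₃ := 𝟙 _
      comm₁₂ := by simp [f']
      comm₂₃ := by simp }
  let φ₂ : ShortComplex.mk f' g' w ⟶ ShortComplex.mk f' g w' :=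
    { τ₁ := 𝟙 _
      τ₂ := 𝟙 _
      τ₃ := kernel.ι h
      comm₁₂ := by simp
      comm₂₃ := by simp [g'] }
  have : Epi φ₁.τ₁ := by dsimp [φ₁]; infer_instance
  have : IsIso φ₁.τ₂ := by dsimp [φ₁]; infer_instance
  have : Mono φ₁.τ₃ := by dsimp [φ₁]; infer_instance
  have : Epi φ₂.τ₁ := by dsimp [φ₂]; infer_instance
  have : IsIso φ₂.τ₂ := by dsimp [φ₂]; infer_instance
  have : Mono φ₂.τ₃ := by dsimp [φ₂]; infer_instance
  have hex' : (ShortComplex.mk f' g w').Exact :=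
    (ShortComplex.exact_iff_of_epi_of_isIso_of_mono φ₁).1 h₂
  have hex : (ShortComplex.mk f' g' w).Exact :=
    (ShortComplex.exact_iff_of_epi_of_isIso_of_mono φ₂).2 hex'
  have hS : (ShortComplex.mk f' g' w).ShortExact := ShortComplex.ShortExact.mk' hex hf' hg'
  exact P.prop_X₂_of_shortExact hS (P.prop_cokernel e p₁ p₂) (P.prop_kernel h p₃ p₄)

end FiveTerm

variable {𝒜 : Type u₁} [Category.{v₁} 𝒜] [Abelian 𝒜] [HasDerivedCategory.{w₁} 𝒜]
  {ℬ : Type u₂} [Category.{v₂} ℬ] [Abelian ℬ] [HasDerivedCategory.{w₂} ℬ]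

open DerivedCategory

/-- `D_A` is closed under extensions (in the middle term of a distinguished triangle). -/
lemma cohIn_obj₂_of_distTriang (A : ObjectProperty 𝒜) [WSerre.IsWeakSerre A]
    (T : Triangle (DerivedCategory 𝒜)) (hT : T ∈ distTriang _)
    (h₁ : WSerre.cohIn A T.obj₁) (h₃ : WSerre.cohIn A T.obj₃) : WSerre.cohIn A T.obj₂ := by
  intro n
  exact prop_of_five_term A (HomologySequence.δ T (n - 1) n (by lia))
    ((homologyFunctor _ n).map T.mor₁) ((homologyFunctor _ n).map T.mor₂)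
    (HomologySequence.δ T n (n + 1) rfl) _ _ _
    (HomologySequence.exact₁ T hT (n - 1) n (by lia)) (HomologySequence.exact₂ T hT n)
    (HomologySequence.exact₃ T hT n (n + 1) rfl) (h₃ (n - 1)) (h₁ n) (h₃ n) (h₁ (n + 1))

lemma cohIn_of_iso (A : ObjectProperty 𝒜) [A.IsClosedUnderIsomorphisms]
    {X Y : DerivedCategory 𝒜} (e : X ≅ Y) (hX : WSerre.cohIn A X) : WSerre.cohIn A Y :=
  fun n => A.prop_of_iso ((homologyFunctor 𝒜 n).mapIso e) (hX n)

lemma cohIn_of_isZero (A : ObjectProperty 𝒜) [A.ContainsZero] [A.IsClosedUnderIsomorphisms]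
    {X : DerivedCategory 𝒜} (hX : IsZero X) : WSerre.cohIn A X :=
  fun n => A.prop_of_isZero ((homologyFunctor 𝒜 n).map_isZero hX)

/-- The cohomology of a single object. -/
lemma cohIn_single (A : ObjectProperty 𝒜) [A.ContainsZero] [A.IsClosedUnderIsomorphisms]
    (M : 𝒜) (hM : A M) (n : ℤ) : WSerre.cohIn A ((singleFunctor 𝒜 n).obj M) := by
  intro q
  by_cases hq : q = n
  · subst hq
    exact A.prop_of_iso ((singleFunctorCompHomologyFunctorIso 𝒜 q).app M).symm hM
  · apply A.prop_of_isZero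
    rcases lt_or_gt_of_ne hq with h | h
    · exact isZero_of_isGE _ n q h
    · exact isZero_of_isLE _ n q h

end Groth.Agent.H45
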