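import Groth.Agent.H45.Derived.Equivalence
import Groth.Agent.H16.RlimTruncA
import Groth.Agent.H16.RlimInjA

/-!
# Tools for passing from `D^+` to `D` via derived limits of truncations (helper45)

* `mapDerivedHomologyNatIso`: `H^i ∘ F.mapDerivedCategory ≅ F ∘ H^i` naturally, for an exact functor `F`.
* `exists_truncGE_iso`: an exact functor commutes with the truncations `τ_{≥ n}`, compatibly with the projections.
* `isRlimVia_map`: a triangulated functor preserving the relevant product preserves derived limits.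
-/

set_option autoImplicit false

open CategoryTheory Limits Pretriangulated

namespace Groth.Agent.H45.UEq

universe w₁ w₂ v₁ v₂ u₁ u₂

section homology

variable {𝒜 : Type u₁} [Category.{v₁} 𝒜] [Abelian 𝒜] [HasDerivedCategory.{w₁} 𝒜]
  {ℬ : Type u₂} [Category.{v₂} ℬ] [Abelian ℬ] [HasDerivedCategory.{w₂} ℬ]
variable (F : 𝒜 ⥤ ℬ) [F.Additive] [PreservesFiniteLimits F] [PreservesFiniteColimits F]

open DerivedCategory

/-- `H^i(F K) ≅ F(H^i K)` naturally in the complex `K`, for an exact functor `F`. -/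
noncomputable def cxHomologyNatIso (i : ℤ) :
    F.mapHomologicalComplex (ComplexShape.up ℤ) ⋙ HomologicalComplex.homologyFunctor ℬ _ i ≅
      HomologicalComplex.homologyFunctor 𝒜 _ i ⋙ F :=
  NatIso.ofComponents (fun K => (K.sc i).mapHomologyIso F) (by
    intro K K' φ
    exact ShortComplex.mapHomologyIso_hom_naturality
      ((HomologicalComplex.shortComplexFunctor 𝒜 _ i).map φ) F)

/-- `H^i(F X) ≅ F(H^i X)` naturally in the object `X` of the derived category, for an exact functor `F`. -/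
noncomputable def mapDerivedHomologyNatIso (i : ℤ) :
    F.mapDerivedCategory ⋙ homologyFunctor ℬ i ≅ homologyFunctor 𝒜 i ⋙ F :=
  Localization.liftNatIso Q (HomologicalComplex.quasiIso 𝒜 (ComplexShape.up ℤ))
    (Q ⋙ F.mapDerivedCategory ⋙ homologyFunctor ℬ i) (Q ⋙ homologyFunctor 𝒜 i ⋙ F) _ _
    ((Functor.associator _ _ _).symm ≪≫
      Functor.isoWhiskerRight F.mapDerivedCategoryFactors (homologyFunctor ℬ i) ≪≫
      Functor.associator _ _ _ ≪≫
      Functor.isoWhiskerLeft _ (homologyFunctorFactors ℬ i) ≪≫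
      cxHomologyNatIso F i ≪≫
      Functor.isoWhiskerRight (homologyFunctorFactors 𝒜 i).symm F ≪≫
      Functor.associator _ _ _)

lemma isIso_homologyMap_mapDerivedCategory {X Y : DerivedCategory 𝒜} (g : X ⟶ Y) (i : ℤ)
    (h : IsIso ((homologyFunctor 𝒜 i).map g)) :
    IsIso ((homologyFunctor ℬ i).map (F.mapDerivedCategory.map g)) := by
  have h1 : IsIso ((homologyFunctor 𝒜 i ⋙ F).map g) := by
    change IsIso (F.map ((homologyFunctor 𝒜 i).map g))
    infer_instance
  exact (NatIso.isIso_map_iff (mapDerivedHomologyNatIso F i) g).2 h1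

lemma isIso_of_isZero_of_isZero {𝒞 : Type*} [Category 𝒞] [HasZeroMorphisms 𝒞] {X Y : 𝒞} (f : X ⟶ Y)
    (hX : IsZero X) (hY : IsZero Y) : IsIso f :=
  ⟨⟨0, hX.eq_of_src _ _, hY.eq_of_src _ _⟩⟩

/-- An exact functor commutes with the truncation `τ_{≥ n}`, compatibly with the projections. -/
lemma exists_truncGE_iso (Y : DerivedCategory 𝒜) (n : ℤ) :
    ∃ θ : (TStructure.t.truncGE n).obj (F.mapDerivedCategory.obj Y) ≅
        F.mapDerivedCategory.obj ((TStructure.t.truncGE n).obj Y),
      (TStructure.t.truncGEπ n).app (F.mapDerivedCategory.obj Y) ≫ θ.hom =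
        F.mapDerivedCategory.map ((TStructure.t.truncGEπ n).app Y) := by
  let L := F.mapDerivedCategory
  have hGE : (L.obj ((TStructure.t.truncGE n).obj Y)).IsGE n :=
    Groth.Agent.H45.isGE_mapDerivedCategory_obj F _ n inferInstance
  let θh := TStructure.t.descTruncGE (L.map ((TStructure.t.truncGEπ n).app Y)) n
  have hθ : (TStructure.t.truncGEπ n).app (L.obj Y) ≫ θh =
      L.map ((TStructure.t.truncGEπ n).app Y) := TStructure.t.π_descTruncGE _ n
  have hiso : IsIso θh := by
    rw [DerivedCategory.isIso_iff]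
    intro q
    by_cases hq : n ≤ q
    · have h1 := Groth.Agent.H45.isIso_homologyMap_truncGEπ (L.obj Y) n q hq
      have h2 : IsIso ((homologyFunctor ℬ q).map (L.map ((TStructure.t.truncGEπ n).app Y))) :=
        isIso_homologyMap_mapDerivedCategory F _ q
          (Groth.Agent.H45.isIso_homologyMap_truncGEπ Y n q hq)
      have h3 : (homologyFunctor ℬ q).map ((TStructure.t.truncGEπ n).app (L.obj Y)) ≫
          (homologyFunctor ℬ q).map θh =
          (homologyFunctor ℬ q).map (L.map ((TStructure.t.truncGEπ n).app Y)) := by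
        rw [← Functor.map_comp, hθ]
      exact IsIso.of_isIso_fac_left h3
    · exact isIso_of_isZero_of_isZero _ (isZero_of_isGE _ n q (by omega))
        (isZero_of_isGE _ n q (by omega))
  exact ⟨@asIso _ _ _ _ θh hiso, hθ⟩

end homology

section rlim

variable {T : Type u₁} [Category.{v₁} T] [Preadditive T] [HasZeroObject T] [HasShift T ℤ]
  [∀ n : ℤ, (shiftFunctor T n).Additive] [Pretriangulated T]
  {T' : Type u₂} [Category.{v₂} T'] [Preadditive T'] [HasZeroObject T'] [HasShift T' ℤ]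
  [∀ n : ℤ, (shiftFunctor T' n).Additive] [Pretriangulated T']

/-- A triangulated functor preserving the product of the `K n` preserves derived limits of `(K n)`. -/
theorem isRlimVia_map (G : T ⥤ T') [G.CommShift ℤ] [G.IsTriangulated] [G.Additive]
    (K : ℕ → T) (t : ∀ n, K (n + 1) ⟶ K n) [HasProduct K] (L : T) (a : ∀ n, L ⟶ K n)
    (hL : CohCx.IsRlimVia K t L a) [HasProduct fun n => G.obj (K n)]
    [PreservesLimit (Discrete.functor K) G] :
    CohCx.IsRlimVia (fun n => G.obj (K n)) (fun n => G.map (t n)) (G.obj L)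
      (fun n => G.map (a n)) := by
  obtain ⟨c, hT⟩ := hL
  have hw := G.map_distinguished _ hT
  let m₃ : G.obj (∏ᶜ K) ⟶ (G.obj L)⟦(1 : ℤ)⟧ := G.map c ≫ (G.commShiftIso (1 : ℤ)).hom.app L
  let e : G.obj (∏ᶜ K) ≅ ∏ᶜ fun n => G.obj (K n) := PreservesProduct.iso G K
  have he : ∀ n, e.hom ≫ Pi.π (fun n => G.obj (K n)) n = G.map (Pi.π K n) := fun n =>
    piComparison_comp_π G K n
  have ha : G.map (Pi.lift a) ≫ e.hom = Pi.lift fun n => G.map (a n) := by
    apply Pi.hom_ext
    intro n
    rw [Category.assoc, he, Pi.lift_π, ← Functor.map_comp, Pi.lift_π]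
  have hφ : G.map (Pi.lift fun n => Pi.π K n - Pi.π K (n + 1) ≫ t n) ≫ e.hom =
      e.hom ≫ Pi.lift fun n => Pi.π (fun n => G.obj (K n)) n -
        Pi.π (fun n => G.obj (K n)) (n + 1) ≫ G.map (t n) := by
    apply Pi.hom_ext
    intro n
    rw [Category.assoc, Category.assoc, he, Pi.lift_π, ← Functor.map_comp, Pi.lift_π,
      Functor.map_sub, Functor.map_comp, Preadditive.comp_sub, he, ← Category.assoc, he]
  refine ⟨e.inv ≫ m₃, isomorphic_distinguished _ hw _
    (Triangle.isoMk _ _ (Iso.refl _) e.symm e.symm ?_ ?_ ?_)⟩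
  · change (Pi.lift fun n => G.map (a n)) ≫ e.inv = 𝟙 _ ≫ G.map (Pi.lift a)
    rw [Category.id_comp, ← ha, Category.assoc, Iso.hom_inv_id, Category.comp_id]
  · change (Pi.lift fun n => Pi.π (fun n => G.obj (K n)) n -
        Pi.π (fun n => G.obj (K n)) (n + 1) ≫ G.map (t n)) ≫ e.inv =
      e.inv ≫ G.map (Pi.lift fun n => Pi.π K n - Pi.π K (n + 1) ≫ t n)
    rw [← cancel_mono e.hom, Category.assoc, Category.assoc, Iso.inv_hom_id, Category.comp_id,
      hφ, Iso.inv_hom_id_assoc]
  · change (e.inv ≫ m₃) ≫ (𝟙 (G.obj L))⟦(1 : ℤ)⟧' = e.inv ≫ m₃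
    have h1 : (𝟙 (G.obj L))⟦(1 : ℤ)⟧' = 𝟙 _ := CategoryTheory.Functor.map_id _ _
    rw [h1, Category.comp_id]

end rlim

end Groth.Agent.H45.UEq
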