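import Groth.Agent.H45.Derived.TExact

/-!
# Way-out lemma for the unit and counit of an adjunction `L ⊣ R` with `L` t-exact
-/

open CategoryTheory Limits Pretriangulated

namespace Groth.Agent.H45

universe w₁ w₂ v₁ v₂ u₁ u₂

variable {𝒜 : Type u₁} [Category.{v₁} 𝒜] [Abelian 𝒜] [HasDerivedCategory.{w₁} 𝒜]
  {ℬ : Type u₂} [Category.{v₂} ℬ] [Abelian ℬ] [HasDerivedCategory.{w₂} ℬ]

open DerivedCategory

variable {L : DerivedCategory ℬ ⥤ DerivedCategory 𝒜} {R : DerivedCategory 𝒜 ⥤ DerivedCategory ℬ}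
  (adj : L ⊣ R) [L.CommShift ℤ] [L.IsTriangulated]

include adj in
theorem isIso_counit_app_of_isGE
    (hL_LE : ∀ (X : DerivedCategory ℬ) (n : ℤ), X.IsLE n → (L.obj X).IsLE n)
    (hL_GE : LeftTExact L)
    (X : DerivedCategory 𝒜) (n₀ : ℤ) (hX : X.IsGE n₀)
    (h : ∀ q : ℤ, IsIso (adj.counit.app
      ((singleFunctor 𝒜 0).obj ((homologyFunctor 𝒜 q).obj X)))) :
    IsIso (adj.counit.app X) := by
  letI := adj.rightAdjointCommShift ℤ
  haveI := adj.commShift_of_leftAdjoint ℤ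
  haveI : R.IsTriangulated := adj.isTriangulated_rightAdjoint
  have hR : LeftTExact R := leftTExact_of_adjunction adj hL_LE
  exact isIso_app_of_isGE adj.counit (hR.comp hL_GE) leftTExact_id X n₀ hX h

include adj in
theorem isIso_unit_app_of_isGE
    (hL_LE : ∀ (X : DerivedCategory ℬ) (n : ℤ), X.IsLE n → (L.obj X).IsLE n)
    (hL_GE : LeftTExact L)
    (Y : DerivedCategory ℬ) (n₀ : ℤ) (hY : Y.IsGE n₀)
    (h : ∀ q : ℤ, IsIso (adj.unit.app
      ((singleFunctor ℬ 0).obj ((homologyFunctor ℬ q).obj Y)))) :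
    IsIso (adj.unit.app Y) := by
  letI := adj.rightAdjointCommShift ℤ
  haveI := adj.commShift_of_leftAdjoint ℤ
  haveI : R.IsTriangulated := adj.isTriangulated_rightAdjoint
  have hR : LeftTExact R := leftTExact_of_adjunction adj hL_LE
  exact isIso_app_of_isGE adj.unit leftTExact_id (hL_GE.comp hR) Y n₀ hY h

end Groth.Agent.H45
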