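import Groth.Agent.H45.Derived.AdjWayOut
import Groth.Agent.H45.Derived.CohIn
import Groth.Agent.H45.Derived.BoundedInduction
import Groth.Agent.H45.Derived.MapDerivedHomology

/-!
# `D^+_{A'} ≌ D^+_A` for an exact functor inducing an equivalence `A' ≌ A`
-/

open CategoryTheory Limits Pretriangulated

namespace Groth.Agent.H45

universe w₁ w₂ v₁ v₂ u₁ u₂

/-- The counit is an isomorphism at `L Z` when the unit is an isomorphism at `Z`. -/
lemma isIso_counit_app_of_isIso_unit_app {𝒞 : Type u₁} [Category.{v₁} 𝒞] {𝒟 : Type u₂}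
    [Category.{v₂} 𝒟] {L : 𝒞 ⥤ 𝒟} {R : 𝒟 ⥤ 𝒞}
    (adj : L ⊣ R) (Z : 𝒞)
    (h : IsIso (adj.unit.app Z)) : IsIso (adj.counit.app (L.obj Z)) := by
  have h1 := adj.left_triangle_components Z
  have h2 : IsIso (L.map (adj.unit.app Z) ≫ adj.counit.app (L.obj Z)) := by
    rw [h1]; exact IsIso.id (L.obj Z)
  exact IsIso.of_isIso_comp_left (L.map (adj.unit.app Z)) _

variable {𝒜 : Type u₁} [Category.{v₁} 𝒜] [Abelian 𝒜] [HasDerivedCategory.{w₁} 𝒜]
  {ℬ : Type u₂} [Category.{v₂} ℬ] [Abelian ℬ] [HasDerivedCategory.{w₂} ℬ]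

open DerivedCategory

variable (F : ℬ ⥤ 𝒜) [F.Additive] [PreservesFiniteLimits F] [PreservesFiniteColimits F]
  {R : DerivedCategory 𝒜 ⥤ DerivedCategory ℬ} (adj : F.mapDerivedCategory ⊣ R)

include adj in
theorem equivalence_cohInPlus
    (A : ObjectProperty 𝒜) [WSerre.IsWeakSerre A] (A' : ObjectProperty ℬ) [WSerre.IsWeakSerre A']
    (h2a : ∀ F' : ℬ, A' F' → A (F.obj F'))
    (h2c : ∀ M : 𝒜, A M → ∃ F' : ℬ, A' F' ∧ Nonempty (F.obj F' ≅ M))
    (h3 : ∀ F' : ℬ, A' F' → IsIso (adj.unit.app ((singleFunctor ℬ 0).obj F'))) :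
    (∀ Y : DerivedCategory ℬ, WSerre.cohInPlus A' Y →
      WSerre.cohInPlus A (F.mapDerivedCategory.obj Y) ∧ IsIso (adj.unit.app Y)) ∧
    (∀ X : DerivedCategory 𝒜, WSerre.cohInPlus A X →
      WSerre.cohInPlus A' (R.obj X) ∧ IsIso (adj.counit.app X)) := by
  have hL_LE : ∀ (X : DerivedCategory ℬ) (n : ℤ), X.IsLE n → (F.mapDerivedCategory.obj X).IsLE n :=
    fun Z n hZ => isLE_mapDerivedCategory_obj F Z n hZ
  have hL_GE : LeftTExact F.mapDerivedCategory := leftTExact_mapDerivedCategory F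
  letI := adj.rightAdjointCommShift ℤ
  haveI := adj.commShift_of_leftAdjoint ℤ
  haveI : R.IsTriangulated := adj.isTriangulated_rightAdjoint
  haveI : R.IsRightAdjoint := adj.isRightAdjoint
  have hR : LeftTExact R := leftTExact_of_adjunction adj hL_LE
  refine ⟨?_, ?_⟩
  · rintro Y ⟨hY, n₀, hn₀⟩
    refine ⟨⟨fun i => A.prop_of_iso (homologyMapDerivedCategoryObjIso F Y i).symm (h2a _ (hY i)),
      n₀, isGE_mapDerivedCategory_obj F Y n₀ hn₀⟩, ?_⟩
    exact isIso_unit_app_of_isGE adj hL_LE hL_GE Y n₀ hn₀ (fun q => h3 _ (hY q))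
  · rintro X ⟨hX, n₀, hn₀⟩
    -- the unit is an isomorphism on `F'[-n]`
    have hunit : ∀ (F' : ℬ), A' F' → ∀ n : ℤ,
        IsIso (adj.unit.app ((singleFunctor ℬ n).obj F')) :=
      fun F' hF' => good_of_single_zero adj.unit F' (h3 F' hF')
    -- objects of `A` placed in any degree are in the essential image of `L`
    have hsingle : ∀ (M : 𝒜), A M → ∀ n : ℤ, ∃ (F' : ℬ), A' F' ∧
        Nonempty (F.mapDerivedCategory.obj ((singleFunctor ℬ n).obj F') ≅
          (singleFunctor 𝒜 n).obj M) := by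
      intro M hM n
      obtain ⟨F', hF', ⟨e⟩⟩ := h2c M hM
      exact ⟨F', hF', ⟨(F.mapDerivedCategorySingleFunctor n).app F' ≪≫
        (singleFunctor 𝒜 n).mapIso e⟩⟩
    refine ⟨⟨?_, n₀, hR X n₀ hn₀⟩, ?_⟩
    · -- cohomology of `R X`
      let P : ObjectProperty (DerivedCategory 𝒜) := fun Z => WSerre.cohIn A' (R.obj Z)
      haveI : P.IsClosedUnderIsomorphisms :=
        ⟨fun e h => cohIn_of_iso A' (R.mapIso e) h⟩
      have hP : ∀ (Z : DerivedCategory 𝒜) (a b : ℤ), Z.IsGE a → Z.IsLE b →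
          (∀ q : ℤ, A ((homologyFunctor 𝒜 q).obj Z)) → P Z := by
        intro Z a b hGE hLE hZ
        refine bounded_induction' P A ?_ ?_ ?_ ?_ Z a b hGE hLE hZ
        · intro Z hZ
          exact cohIn_of_isZero A' (R.map_isZero hZ)
        · intro T hT h₁ h₃
          exact cohIn_obj₂_of_distTriang A' _ (R.map_distinguished T hT) h₁ h₃
        · intro M n hM
          obtain ⟨F', hF', ⟨e⟩⟩ := hsingle M hM n
          have := hunit F' hF' n
          have e' : (singleFunctor ℬ n).obj F' ≅ R.obj ((singleFunctor 𝒜 n).obj M) :=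
            asIso (adj.unit.app ((singleFunctor ℬ n).obj F')) ≪≫ R.mapIso e
          exact cohIn_of_iso A' e' (cohIn_single A' F' hF' n)
        · intro M hM
          exact A.prop_of_isZero hM
      intro j
      have hiso := isIso_homologyMap_map_truncLTι R hR X j (j + 2) le_rfl
      have hPX : P ((TStructure.t.truncLT (j + 2)).obj X) := by
        refine hP _ n₀ (j + 2 - 1) inferInstance inferInstance ?_
        intro q
        by_cases hq : q < j + 2
        · have := isIso_homologyMap_truncLTι X (j + 2) q hq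
          exact A.prop_of_iso
            (asIso ((homologyFunctor 𝒜 q).map ((TStructure.t.truncLTι (j + 2)).app X))).symm (hX q)
        · apply A.prop_of_isZero
          exact isZero_of_isLE _ (j + 2 - 1) q (by lia)
      exact A'.prop_of_iso (asIso ((homologyFunctor ℬ j).map
        (R.map ((TStructure.t.truncLTι (j + 2)).app X)))) (hPX j)
    · -- the counit
      refine isIso_counit_app_of_isGE adj hL_LE hL_GE X n₀ hn₀ ?_
      intro q
      obtain ⟨F', hF', ⟨e⟩⟩ := hsingle _ (hX q) 0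
      exact isIso_app_of_iso adj.counit e
        (isIso_counit_app_of_isIso_unit_app adj _ (h3 F' hF'))

end Groth.Agent.H45
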