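import Mathlib.CategoryTheory.Triangulated.Functor
import Mathlib.CategoryTheory.Shift.CommShift
import Mathlib.CategoryTheory.Triangulated.Pretriangulated

/-!
# The locus where a natural transformation of triangulated functors is an isomorphism
-/

open CategoryTheory Limits Pretriangulated

namespace Groth.Agent.H45

universe v₁ v₂ u₁ u₂

variable {𝒞 : Type u₁} [Category.{v₁} 𝒞] {𝒟 : Type u₂} [Category.{v₂} 𝒟]

section Basic

variable {G₁ G₂ : 𝒞 ⥤ 𝒟} (τ : G₁ ⟶ G₂)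

/-- The locus where `τ` is an isomorphism is closed under isomorphisms. -/
lemma isIso_app_of_iso {X Y : 𝒞} (e : X ≅ Y) (h : IsIso (τ.app X)) : IsIso (τ.app Y) := by
  have : τ.app Y = G₁.map e.inv ≫ τ.app X ≫ G₂.map e.hom := by
    rw [← τ.naturality, ← Functor.map_comp_assoc, e.inv_hom_id, CategoryTheory.Functor.map_id, Category.id_comp]
  rw [this]
  infer_instance

lemma isIso_app_iff_of_iso {X Y : 𝒞} (e : X ≅ Y) : IsIso (τ.app X) ↔ IsIso (τ.app Y) :=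
  ⟨isIso_app_of_iso τ e, isIso_app_of_iso τ e.symm⟩

end Basic

section Shift

variable [HasShift 𝒞 ℤ] [HasShift 𝒟 ℤ] {G₁ G₂ : 𝒞 ⥤ 𝒟} [G₁.CommShift ℤ] [G₂.CommShift ℤ]
  (τ : G₁ ⟶ G₂) [NatTrans.CommShift τ ℤ]

/-- The locus where `τ` is an isomorphism is closed under shifts. -/
lemma isIso_app_shift (X : 𝒞) (n : ℤ) (h : IsIso (τ.app X)) : IsIso (τ.app (X⟦n⟧)) := by
  rw [NatTrans.app_shift τ n X]
  infer_instance

lemma isIso_app_of_shift (X : 𝒞) (n : ℤ) (h : IsIso (τ.app (X⟦n⟧))) : IsIso (τ.app X) := by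
  have h' := isIso_app_shift τ (X⟦n⟧) (-n) h
  exact isIso_app_of_iso τ ((shiftEquiv 𝒞 n).unitIso.app X).symm h'

end Shift

section Triangulated

variable [HasZeroObject 𝒞] [HasZeroObject 𝒟] [Preadditive 𝒞] [Preadditive 𝒟]
  [HasShift 𝒞 ℤ] [HasShift 𝒟 ℤ]
  [∀ n : ℤ, (shiftFunctor 𝒞 n).Additive] [∀ n : ℤ, (shiftFunctor 𝒟 n).Additive]
  [Pretriangulated 𝒞] [Pretriangulated 𝒟]
  {G₁ G₂ : 𝒞 ⥤ 𝒟} [G₁.CommShift ℤ] [G₂.CommShift ℤ] [G₁.IsTriangulated] [G₂.IsTriangulated]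
  (τ : G₁ ⟶ G₂) [NatTrans.CommShift τ ℤ]

/-- The locus where `τ` is an isomorphism satisfies two-out-of-three in distinguished triangles
(middle term). -/
lemma isIso_app_obj₂_of_distTriang (T : Triangle 𝒞) (hT : T ∈ distTriang 𝒞)
    (h₁ : IsIso (τ.app T.obj₁)) (h₃ : IsIso (τ.app T.obj₃)) : IsIso (τ.app T.obj₂) := by
  let φ : G₁.mapTriangle.obj T ⟶ G₂.mapTriangle.obj T :=
    { hom₁ := τ.app T.obj₁
      hom₂ := τ.app T.obj₂
      hom₃ := τ.app T.obj₃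
      comm₁ := τ.naturality T.mor₁
      comm₂ := τ.naturality T.mor₂
      comm₃ := by
        change (G₁.map T.mor₃ ≫ (G₁.commShiftIso (1 : ℤ)).hom.app T.obj₁) ≫ (τ.app T.obj₁)⟦(1 : ℤ)⟧' =
          τ.app T.obj₃ ≫ G₂.map T.mor₃ ≫ (G₂.commShiftIso (1 : ℤ)).hom.app T.obj₁
        rw [Category.assoc, NatTrans.shift_app_comm τ 1 T.obj₁, NatTrans.naturality_assoc] }
  exact isIso₂_of_isIso₁₃ φ (G₁.map_distinguished T hT) (G₂.map_distinguished T hT) h₁ h₃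

omit [NatTrans.CommShift τ ℤ] in
/-- `τ` is an isomorphism on zero objects. -/
lemma isIso_app_of_isZero (X : 𝒞) (hX : IsZero X) : IsIso (τ.app X) := by
  have h₁ : IsZero (G₁.obj X) := G₁.map_isZero hX
  have h₂ : IsZero (G₂.obj X) := G₂.map_isZero hX
  exact ⟨0, h₁.eq_of_src _ _, h₂.eq_of_src _ _⟩

end Triangulated

end Groth.Agent.H45
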