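import Mathlib.Algebra.Homology.DerivedCategory.FullyFaithful
import Mathlib.Algebra.Homology.DerivedCategory.ExactFunctor
import Mathlib.Algebra.Homology.DerivedCategory.TStructure

/-!
# Morphisms between objects concentrated in degree `0` of a derived category (helper45)

* `isIso_of_bijective_single`: a morphism `φ : Y ⟶ Z` between objects concentrated in degree `0` such that
  `Hom(P[0], Y) → Hom(P[0], Z)` is bijective for every object `P` of the abelian category is an isomorphism.
* `bijective_mapDerivedCategory_map_single`: for an exact functor `F`, the map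
  `Hom(P[0], M[0]) → Hom(F P[0], F M[0])` induced by `F.mapDerivedCategory` is bijective when `F` is bijective on
  `Hom(P, M)`.
-/

set_option autoImplicit false

open CategoryTheory Limits DerivedCategory

namespace Groth.Agent.H45.SingleYoneda

universe w₁ w₂ v₁ v₂ u₁ u₂

section

variable {𝒞 : Type u₁} [Category.{v₁} 𝒞] [Abelian 𝒞] [HasDerivedCategory.{w₁} 𝒞]

theorem isIso_of_bijective_single {Y Z : DerivedCategory 𝒞} (φ : Y ⟶ Z)
    [Y.IsGE 0] [Y.IsLE 0] [Z.IsGE 0] [Z.IsLE 0]
    (h : ∀ P : 𝒞, Function.Bijective (fun g : (singleFunctor 𝒞 0).obj P ⟶ Y => g ≫ φ)) :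
    IsIso φ := by
  obtain ⟨M, ⟨eY⟩⟩ := exists_iso_singleFunctor_obj_of_isGE_of_isLE Y 0
  obtain ⟨N, ⟨eZ⟩⟩ := exists_iso_singleFunctor_obj_of_isGE_of_isLE Z 0
  obtain ⟨s, hs⟩ := (h N).2 eZ.inv
  have hs' : s ≫ φ = eZ.inv := hs
  let r : Z ⟶ Y := eZ.hom ≫ s
  have hr : r ≫ φ = 𝟙 Z := by
    change (eZ.hom ≫ s) ≫ φ = 𝟙 Z
    rw [Category.assoc, hs', Iso.hom_inv_id]
  have h1 : eY.inv ≫ φ ≫ r = eY.inv := by
    apply (h M).1
    change (eY.inv ≫ φ ≫ r) ≫ φ = eY.inv ≫ φ
    rw [Category.assoc, Category.assoc, hr, Category.comp_id]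
  have h2 : φ ≫ r = 𝟙 Y := by
    rw [← cancel_epi eY.inv, h1, Category.comp_id]
  exact ⟨⟨r, h2, hr⟩⟩

end

section

variable {𝒜 : Type u₁} [Category.{v₁} 𝒜] [Abelian 𝒜] [HasDerivedCategory.{w₁} 𝒜]
  {ℬ : Type u₂} [Category.{v₂} ℬ] [Abelian ℬ] [HasDerivedCategory.{w₂} ℬ]
  (F : ℬ ⥤ 𝒜) [F.Additive] [PreservesFiniteLimits F] [PreservesFiniteColimits F]

lemma mapDerivedCategory_map_single {P M : ℬ} (g : P ⟶ M) :
    F.mapDerivedCategory.map ((singleFunctor ℬ 0).map g) =
      (F.mapDerivedCategorySingleFunctor 0).hom.app P ≫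
        (singleFunctor 𝒜 0).map (F.map g) ≫ (F.mapDerivedCategorySingleFunctor 0).inv.app M := by
  have h : F.mapDerivedCategory.map ((singleFunctor ℬ 0).map g) ≫
      (F.mapDerivedCategorySingleFunctor 0).hom.app M =
      (F.mapDerivedCategorySingleFunctor 0).hom.app P ≫ (singleFunctor 𝒜 0).map (F.map g) :=
    (F.mapDerivedCategorySingleFunctor 0).hom.naturality g
  rw [← Category.assoc, ← h, Category.assoc, Iso.hom_inv_id_app]
  exact (Category.comp_id _).symm

theorem bijective_mapDerivedCategory_map_single (P M : ℬ)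
    (h : Function.Bijective (fun g : P ⟶ M => F.map g)) :
    Function.Bijective (fun x : (singleFunctor ℬ 0).obj P ⟶ (singleFunctor ℬ 0).obj M =>
      F.mapDerivedCategory.map x) := by
  let σ := F.mapDerivedCategorySingleFunctor 0
  constructor
  · intro x y hxy
    obtain ⟨g, rfl⟩ := (singleFunctor ℬ 0).map_surjective x
    obtain ⟨g', rfl⟩ := (singleFunctor ℬ 0).map_surjective y
    have h1 : F.mapDerivedCategory.map ((singleFunctor ℬ 0).map g) =
        F.mapDerivedCategory.map ((singleFunctor ℬ 0).map g') := hxy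
    rw [mapDerivedCategory_map_single, mapDerivedCategory_map_single] at h1
    have h2 : (singleFunctor 𝒜 0).map (F.map g) = (singleFunctor 𝒜 0).map (F.map g') := by
      have h3 := (cancel_epi _).1 h1
      exact (cancel_mono _).1 h3
    have h4 : F.map g = F.map g' := (singleFunctor 𝒜 0).map_injective h2
    rw [h.1 h4]
  · intro z
    let z' : (singleFunctor 𝒜 0).obj (F.obj P) ⟶ (singleFunctor 𝒜 0).obj (F.obj M) :=
      σ.inv.app P ≫ z ≫ σ.hom.app M
    obtain ⟨w, hw⟩ := (singleFunctor 𝒜 0).map_surjective z'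
    obtain ⟨g, hg⟩ := h.2 w
    refine ⟨(singleFunctor ℬ 0).map g, ?_⟩
    change F.mapDerivedCategory.map ((singleFunctor ℬ 0).map g) = z
    have hg' : F.map g = w := hg
    rw [mapDerivedCategory_map_single, hg', hw]
    change σ.hom.app P ≫ (σ.inv.app P ≫ z ≫ σ.hom.app M) ≫ σ.inv.app M = z
    simp

end

end Groth.Agent.H45.SingleYoneda
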