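import Groth.Agent.H45.Derived.UnboundedTools

/-!
# `D_{A'} ≌ D_A` (unbounded) for an exact functor inducing an equivalence `A' ≌ A` (helper45)

Abstract form of the passage from `D^+` to `D` via `K = R lim τ_{≥ -n} K`.
-/

set_option autoImplicit false

open CategoryTheory Limits Pretriangulated DerivedCategory

namespace Groth.Agent.H45.UEq

universe w₁ w₂ u₁ u₂

section

variable {𝒜 : Type (u₁ + 1)} [Category.{u₁} 𝒜] [Abelian 𝒜] [HasDerivedCategory.{w₁} 𝒜]

lemma cohInPlus_truncTower (A : ObjectProperty 𝒜) [WSerre.IsWeakSerre A] (K : DerivedCategory 𝒜)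
    (hK : WSerre.cohIn A K) (n : ℕ) : WSerre.cohInPlus A (CohCx.truncTower K n) := by
  refine ⟨fun q => ?_, -(n : ℤ), inferInstance⟩
  by_cases hq : -(n : ℤ) ≤ q
  · have := Groth.Agent.H45.isIso_homologyMap_truncGEπ K (-(n : ℤ)) q hq
    exact A.prop_of_iso
      (asIso ((homologyFunctor 𝒜 q).map ((TStructure.t.truncGEπ (-(n : ℤ))).app K))) (hK q)
  · exact A.prop_of_isZero (isZero_of_isGE _ (-(n : ℤ)) q (by omega))

end

variable {𝒜 : Type (u₁ + 1)} [Category.{u₁} 𝒜] [Abelian 𝒜] [HasDerivedCategory.{w₁} 𝒜]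
  {ℬ : Type (u₂ + 1)} [Category.{u₂} ℬ] [Abelian ℬ] [HasDerivedCategory.{w₂} ℬ]

variable (F : ℬ ⥤ 𝒜) [F.Additive] [PreservesFiniteLimits F] [PreservesFiniteColimits F]
  {R : DerivedCategory 𝒜 ⥤ DerivedCategory ℬ} (adj : F.mapDerivedCategory ⊣ R)

include adj in
/-- `R` of an object of `A` placed in degree `a` has cohomology only in degree `a`. -/
lemma isZero_homology_R_single
    (A : ObjectProperty 𝒜) (A' : ObjectProperty ℬ)
    (h2c : ∀ M : 𝒜, A M → ∃ F' : ℬ, A' F' ∧ Nonempty (F.obj F' ≅ M))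
    (h3 : ∀ F' : ℬ, A' F' → IsIso (adj.unit.app ((singleFunctor ℬ 0).obj F')))
    (Z : DerivedCategory 𝒜) (G : 𝒜) (hG : A G) (a : ℤ) (e : Z ≅ (singleFunctor 𝒜 a).obj G)
    (q : ℤ) (hq : q ≠ a) : IsZero ((homologyFunctor ℬ q).obj (R.obj Z)) := by
  letI := adj.rightAdjointCommShift ℤ
  haveI := adj.commShift_of_leftAdjoint ℤ
  obtain ⟨F', hF', ⟨e'⟩⟩ := h2c G hG
  have hunit : IsIso (adj.unit.app ((singleFunctor ℬ a).obj F')) :=
    Groth.Agent.H45.good_of_single_zero adj.unit F' (h3 F' hF') a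
  let e₁ : (singleFunctor ℬ a).obj F' ≅ R.obj Z :=
    asIso (adj.unit.app ((singleFunctor ℬ a).obj F')) ≪≫
      R.mapIso ((F.mapDerivedCategorySingleFunctor a).app F' ≪≫
        (singleFunctor 𝒜 a).mapIso e' ≪≫ e.symm)
  refine IsZero.of_iso ?_ ((homologyFunctor ℬ q).mapIso e₁.symm)
  rcases lt_or_gt_of_ne hq with h | h
  · exact isZero_of_isGE _ a q h
  · exact isZero_of_isLE _ a q h

include adj in
/-- `H^j(R τ_{≥ -(n+1)} K) ⟶ H^j(R τ_{≥ -n} K)` is an isomorphism for `j ≥ -n`. -/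
lemma isIso_homologyMap_R_truncTowerMap
    (A : ObjectProperty 𝒜) (A' : ObjectProperty ℬ)
    (h2c : ∀ M : 𝒜, A M → ∃ F' : ℬ, A' F' ∧ Nonempty (F.obj F' ≅ M))
    (h3 : ∀ F' : ℬ, A' F' → IsIso (adj.unit.app ((singleFunctor ℬ 0).obj F')))
    (K : DerivedCategory 𝒜) (hK : WSerre.cohIn A K) (n : ℕ) (j : ℤ) (hj : -(n : ℤ) ≤ j) :
    IsIso ((homologyFunctor ℬ j).map (R.map (CohCx.truncTowerMap K n))) := by
  letI := adj.rightAdjointCommShift ℤ
  haveI := adj.commShift_of_leftAdjoint ℤ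
  haveI : R.IsTriangulated := adj.isTriangulated_rightAdjoint
  obtain ⟨Z, f, δ, hT, ⟨e⟩⟩ :=
    Groth.Agent.H16.RlimTruncA.exists_triangle K (-((n + 1 : ℕ) : ℤ)) (-(n : ℤ)) (by push_cast; omega)
  have hT' := R.map_distinguished _ hT
  have hz : ∀ q : ℤ, q ≠ -((n + 1 : ℕ) : ℤ) → IsZero ((homologyFunctor ℬ q).obj (R.obj Z)) :=
    fun q hq => isZero_homology_R_single F adj A A' h2c h3 Z _ (hK _) _ e q hq
  exact Groth.Agent.H45.isIso_homologyMap_mor₂ _ hT' j (j + 1) rfl
    (hz j (by push_cast; omega)) (hz (j + 1) (by push_cast; omega))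

include adj in
lemma isIso_homologyMap_R_transition
    (A : ObjectProperty 𝒜) (A' : ObjectProperty ℬ)
    (h2c : ∀ M : 𝒜, A M → ∃ F' : ℬ, A' F' ∧ Nonempty (F.obj F' ≅ M))
    (h3 : ∀ F' : ℬ, A' F' → IsIso (adj.unit.app ((singleFunctor ℬ 0).obj F')))
    (K : DerivedCategory 𝒜) (hK : WSerre.cohIn A K) (n : ℕ) (j : ℤ) (hj : -(n : ℤ) ≤ j) (k : ℕ) :
    IsIso ((homologyFunctor ℬ j).map (R.map
      (CohCx.transition (CohCx.truncTower K) (CohCx.truncTowerMap K) n k))) := by
  induction k with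
  | zero =>
    change IsIso ((homologyFunctor ℬ j).map (R.map (𝟙 _)))
    rw [CategoryTheory.Functor.map_id, CategoryTheory.Functor.map_id]
    infer_instance
  | succ k ih =>
    change IsIso ((homologyFunctor ℬ j).map (R.map (CohCx.truncTowerMap K (n + k) ≫
      CohCx.transition (CohCx.truncTower K) (CohCx.truncTowerMap K) n k)))
    rw [CategoryTheory.Functor.map_comp, CategoryTheory.Functor.map_comp]
    have := isIso_homologyMap_R_truncTowerMap F adj A A' h2c h3 K hK (n + k) j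
      (by push_cast; omega)
    infer_instance

/-- The hypothesis "derived limits of eventually constant towers in `D^+_{A'}` have the expected cohomology". -/
def ConstHyp (A' : ObjectProperty ℬ) [∀ K : ℕ → DerivedCategory ℬ, HasProduct K] : Prop :=
  ∀ (K' : ℕ → DerivedCategory ℬ) (t' : ∀ n, K' (n + 1) ⟶ K' n),
    (∀ n, WSerre.cohInPlus A' (K' n)) →
    (∀ j : ℤ, ∃ n₀ : ℕ, ∀ n, n₀ ≤ n → IsIso ((homologyFunctor ℬ j).map (t' n))) →
    ∀ (L' : DerivedCategory ℬ) (a' : ∀ n, L' ⟶ K' n), CohCx.IsRlimVia K' t' L' a' →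
    ∀ j : ℤ, ∃ n₀ : ℕ, ∀ n, n₀ ≤ n → IsIso ((homologyFunctor ℬ j).map (a' n))

/-- The hypothesis "`K = R lim τ_{≥ -n} K` for `K ∈ D_A`". -/
def RlimHyp (A : ObjectProperty 𝒜) [∀ K : ℕ → DerivedCategory 𝒜, HasProduct K] : Prop :=
  ∀ K : DerivedCategory 𝒜, WSerre.cohIn A K →
    CohCx.IsRlimVia (CohCx.truncTower K) (CohCx.truncTowerMap K) K (CohCx.toTruncTower K)

variable [∀ K : ℕ → DerivedCategory 𝒜, HasProduct K] [∀ K : ℕ → DerivedCategory ℬ, HasProduct K]

include adj in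
/-- Core lemma: cohomology of `R K` for `K ∈ D_A`. -/
theorem core
    (A : ObjectProperty 𝒜) [WSerre.IsWeakSerre A] (A' : ObjectProperty ℬ) [WSerre.IsWeakSerre A']
    (h2a : ∀ F' : ℬ, A' F' → A (F.obj F'))
    (h2c : ∀ M : 𝒜, A M → ∃ F' : ℬ, A' F' ∧ Nonempty (F.obj F' ≅ M))
    (h3 : ∀ F' : ℬ, A' F' → IsIso (adj.unit.app ((singleFunctor ℬ 0).obj F')))
    (hRlim : RlimHyp A) (hconst : ConstHyp A')
    (K : DerivedCategory 𝒜) (hK : WSerre.cohIn A K) :
    WSerre.cohIn A' (R.obj K) ∧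
      ∀ (n : ℕ) (j : ℤ), -(n : ℤ) ≤ j →
        IsIso ((homologyFunctor ℬ j).map (R.map (CohCx.toTruncTower K n))) := by
  letI := adj.rightAdjointCommShift ℤ
  haveI := adj.commShift_of_leftAdjoint ℤ
  haveI : R.IsTriangulated := adj.isTriangulated_rightAdjoint
  haveI : R.Additive := adj.right_adjoint_additive
  haveI : PreservesLimitsOfSize.{0, 0} R := adj.rightAdjoint_preservesLimits
  have hE := equivalence_cohInPlus F adj A A' h2a h2c h3
  have hR := isRlimVia_map R _ _ K _ (hRlim K hK)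
  have hplus : ∀ n, WSerre.cohInPlus A' (R.obj (CohCx.truncTower K n)) :=
    fun n => (hE.2 _ (cohInPlus_truncTower A K hK n)).1
  have hc := hconst _ _ hplus (fun j => ⟨(-j).toNat, fun n hn =>
    isIso_homologyMap_R_truncTowerMap F adj A A' h2c h3 K hK n j (by omega)⟩) _ _ hR
  have hb : ∀ (n : ℕ) (j : ℤ), -(n : ℤ) ≤ j →
      IsIso ((homologyFunctor ℬ j).map (R.map (CohCx.toTruncTower K n))) := by
    intro n j hj
    obtain ⟨n₀, hn₀⟩ := hc j
    have h1 := hn₀ (n + n₀) (by omega)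
    have h2 := isIso_homologyMap_R_transition F adj A A' h2c h3 K hK n j hj n₀
    have h3 := Groth.Agent.H16.RlimInjA.a_comp_transition (hRlim K hK) n n₀
    rw [← h3, Functor.map_comp, Functor.map_comp]
    infer_instance
  refine ⟨fun j => ?_, hb⟩
  have := hb (-j).toNat j (by omega)
  exact A'.prop_of_iso (asIso ((homologyFunctor ℬ j).map
    (R.map (CohCx.toTruncTower K (-j).toNat)))).symm ((hplus _).1 j)

include adj in
/-- **`D_{A'} ≌ D_A`** via `L = F.mapDerivedCategory` and its right adjoint `R`. -/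
theorem equivalence_cohIn
    (A : ObjectProperty 𝒜) [WSerre.IsWeakSerre A] (A' : ObjectProperty ℬ) [WSerre.IsWeakSerre A']
    (h2a : ∀ F' : ℬ, A' F' → A (F.obj F'))
    (h2c : ∀ M : 𝒜, A M → ∃ F' : ℬ, A' F' ∧ Nonempty (F.obj F' ≅ M))
    (h3 : ∀ F' : ℬ, A' F' → IsIso (adj.unit.app ((singleFunctor ℬ 0).obj F')))
    (hRlim : RlimHyp A) (hconst : ConstHyp A') :
    (∀ Y : DerivedCategory ℬ, WSerre.cohIn A' Y →
      WSerre.cohIn A (F.mapDerivedCategory.obj Y) ∧ IsIso (adj.unit.app Y)) ∧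
    (∀ X : DerivedCategory 𝒜, WSerre.cohIn A X →
      WSerre.cohIn A' (R.obj X) ∧ IsIso (adj.counit.app X)) := by
  have hE := equivalence_cohInPlus F adj A A' h2a h2c h3
  have hcore := core F adj A A' h2a h2c h3 hRlim hconst
  refine ⟨?_, ?_⟩
  · intro Y hY
    have hLY : WSerre.cohIn A (F.mapDerivedCategory.obj Y) := fun i =>
      A.prop_of_iso (Groth.Agent.H45.homologyMapDerivedCategoryObjIso F Y i).symm (h2a _ (hY i))
    refine ⟨hLY, ?_⟩
    rw [DerivedCategory.isIso_iff]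
    intro j
    let n : ℕ := (-j).toNat
    have hj : -(n : ℤ) ≤ j := by omega
    let p := CohCx.toTruncTower Y n
    have hnat : adj.unit.app Y ≫ R.map (F.mapDerivedCategory.map p) =
        p ≫ adj.unit.app (CohCx.truncTower Y n) := (adj.unit.naturality p).symm
    have h1 : IsIso ((homologyFunctor ℬ j).map p) :=
      Groth.Agent.H45.isIso_homologyMap_truncGEπ Y _ j hj
    have h2 : IsIso (adj.unit.app (CohCx.truncTower Y n)) :=
      (hE.1 _ (cohInPlus_truncTower A' Y hY n)).2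
    obtain ⟨θ, hθ⟩ := exists_truncGE_iso F Y (-(n : ℤ))
    have h3' : IsIso ((homologyFunctor ℬ j).map (R.map (F.mapDerivedCategory.map p))) := by
      have h4 := (hcore _ hLY).2 n j hj
      change IsIso ((homologyFunctor ℬ j).map (R.map (F.mapDerivedCategory.map
        ((TStructure.t.truncGEπ (-(n : ℤ))).app Y))))
      rw [← hθ, Functor.map_comp, Functor.map_comp]
      infer_instance
    have h5 : (homologyFunctor ℬ j).map (adj.unit.app Y) ≫
        (homologyFunctor ℬ j).map (R.map (F.mapDerivedCategory.map p)) =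
        (homologyFunctor ℬ j).map p ≫
          (homologyFunctor ℬ j).map (adj.unit.app (CohCx.truncTower Y n)) := by
      rw [← Functor.map_comp, ← Functor.map_comp, hnat]
    have h6 : IsIso ((homologyFunctor ℬ j).map (adj.unit.app Y) ≫
        (homologyFunctor ℬ j).map (R.map (F.mapDerivedCategory.map p))) := by
      rw [h5]; infer_instance
    exact IsIso.of_isIso_comp_right _ ((homologyFunctor ℬ j).map (R.map (F.mapDerivedCategory.map p)))
  · intro X hX
    refine ⟨(hcore X hX).1, ?_⟩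
    rw [DerivedCategory.isIso_iff]
    intro j
    let n : ℕ := (-j).toNat
    have hj : -(n : ℤ) ≤ j := by omega
    let p := CohCx.toTruncTower X n
    have hnat : F.mapDerivedCategory.map (R.map p) ≫ adj.counit.app (CohCx.truncTower X n) =
        adj.counit.app X ≫ p := adj.counit.naturality p
    have h1 : IsIso ((homologyFunctor 𝒜 j).map p) :=
      Groth.Agent.H45.isIso_homologyMap_truncGEπ X _ j hj
    have h2 : IsIso (adj.counit.app (CohCx.truncTower X n)) :=
      (hE.2 _ (cohInPlus_truncTower A X hX n)).2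
    have h3' : IsIso ((homologyFunctor 𝒜 j).map (F.mapDerivedCategory.map (R.map p))) :=
      isIso_homologyMap_mapDerivedCategory F _ j ((hcore X hX).2 n j hj)
    have h5 : (homologyFunctor 𝒜 j).map (F.mapDerivedCategory.map (R.map p)) ≫
        (homologyFunctor 𝒜 j).map (adj.counit.app (CohCx.truncTower X n)) =
        (homologyFunctor 𝒜 j).map (adj.counit.app X) ≫ (homologyFunctor 𝒜 j).map p := by
      rw [← Functor.map_comp, ← Functor.map_comp, hnat]
    have h6 : IsIso ((homologyFunctor 𝒜 j).map (adj.counit.app X) ≫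
        (homologyFunctor 𝒜 j).map p) := by
      rw [← h5]; infer_instance
    exact IsIso.of_isIso_comp_right _ ((homologyFunctor 𝒜 j).map p)

end Groth.Agent.H45.UEq
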