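import Groth.Agent.H45.Derived.UnboundedEquiv

/-!
# `D_{A'} ≌ D_A` (unbounded), second form (helper45)

Same as `equivalence_cohIn`, but the only hypothesis beyond those of the bounded below case is that
`H^j(R K) ⟶ H^j(R τ_{≥ -n} K)` is an isomorphism for `n` large, for `K ∈ D_A`.
-/

set_option autoImplicit false

open CategoryTheory Limits Pretriangulated DerivedCategory

namespace Groth.Agent.H45.UEq

universe w₁ w₂ u₁ u₂

variable {𝒜 : Type (u₁ + 1)} [Category.{u₁} 𝒜] [Abelian 𝒜] [HasDerivedCategory.{w₁} 𝒜]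
  {ℬ : Type (u₂ + 1)} [Category.{u₂} ℬ] [Abelian ℬ] [HasDerivedCategory.{w₂} ℬ]

lemma toTruncTower_comp_transition (E : DerivedCategory 𝒜) (n k : ℕ) :
    CohCx.toTruncTower E (n + k) ≫
      CohCx.transition (CohCx.truncTower E) (CohCx.truncTowerMap E) n k =
      CohCx.toTruncTower E n := by
  induction k with
  | zero => exact Category.comp_id _
  | succ k ih =>
    change CohCx.toTruncTower E (n + k + 1) ≫ CohCx.truncTowerMap E (n + k) ≫
      CohCx.transition (CohCx.truncTower E) (CohCx.truncTowerMap E) n k = _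
    rw [← Category.assoc, Groth.Agent.H16.RlimTruncA.toTruncTower_comp, ih]

variable (F : ℬ ⥤ 𝒜) [F.Additive] [PreservesFiniteLimits F] [PreservesFiniteColimits F]
  {R : DerivedCategory 𝒜 ⥤ DerivedCategory ℬ} (adj : F.mapDerivedCategory ⊣ R)

/-- The hypothesis "`H^j(R K) ⟶ H^j(R τ_{≥ -n} K)` is an isomorphism for `n` large, for `K ∈ D_A`". -/
def StabHyp (R : DerivedCategory 𝒜 ⥤ DerivedCategory ℬ) (A : ObjectProperty 𝒜) : Prop :=
  ∀ K : DerivedCategory 𝒜, WSerre.cohIn A K → ∀ j : ℤ, ∃ n₀ : ℕ, ∀ n, n₀ ≤ n →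
    IsIso ((homologyFunctor ℬ j).map (R.map (CohCx.toTruncTower K n)))

include adj in
/-- Core lemma: cohomology of `R K` for `K ∈ D_A`. -/
theorem core'
    (A : ObjectProperty 𝒜) [WSerre.IsWeakSerre A] (A' : ObjectProperty ℬ) [WSerre.IsWeakSerre A']
    (h2a : ∀ F' : ℬ, A' F' → A (F.obj F'))
    (h2c : ∀ M : 𝒜, A M → ∃ F' : ℬ, A' F' ∧ Nonempty (F.obj F' ≅ M))
    (h3 : ∀ F' : ℬ, A' F' → IsIso (adj.unit.app ((singleFunctor ℬ 0).obj F')))
    (hstab : StabHyp R A)
    (K : DerivedCategory 𝒜) (hK : WSerre.cohIn A K) :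
    WSerre.cohIn A' (R.obj K) ∧
      ∀ (n : ℕ) (j : ℤ), -(n : ℤ) ≤ j →
        IsIso ((homologyFunctor ℬ j).map (R.map (CohCx.toTruncTower K n))) := by
  have hE := equivalence_cohInPlus F adj A A' h2a h2c h3
  have hplus : ∀ n, WSerre.cohInPlus A' (R.obj (CohCx.truncTower K n)) :=
    fun n => (hE.2 _ (cohInPlus_truncTower A K hK n)).1
  have hb : ∀ (n : ℕ) (j : ℤ), -(n : ℤ) ≤ j →
      IsIso ((homologyFunctor ℬ j).map (R.map (CohCx.toTruncTower K n))) := by
    intro n j hj
    obtain ⟨n₀, hn₀⟩ := hstab K hK j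
    have h1 := hn₀ (n + n₀) (by omega)
    have h2 := isIso_homologyMap_R_transition F adj A A' h2c h3 K hK n j hj n₀
    have h3 := toTruncTower_comp_transition K n n₀
    rw [← h3, Functor.map_comp, Functor.map_comp]
    infer_instance
  refine ⟨fun j => ?_, hb⟩
  have := hb (-j).toNat j (by omega)
  exact A'.prop_of_iso (asIso ((homologyFunctor ℬ j).map
    (R.map (CohCx.toTruncTower K (-j).toNat)))).symm ((hplus _).1 j)

include adj in
/-- **`D_{A'} ≌ D_A`** via `L = F.mapDerivedCategory` and its right adjoint `R`, second form. -/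
theorem equivalence_cohIn'
    (A : ObjectProperty 𝒜) [WSerre.IsWeakSerre A] (A' : ObjectProperty ℬ) [WSerre.IsWeakSerre A']
    (h2a : ∀ F' : ℬ, A' F' → A (F.obj F'))
    (h2c : ∀ M : 𝒜, A M → ∃ F' : ℬ, A' F' ∧ Nonempty (F.obj F' ≅ M))
    (h3 : ∀ F' : ℬ, A' F' → IsIso (adj.unit.app ((singleFunctor ℬ 0).obj F')))
    (hstab : StabHyp R A) :
    (∀ Y : DerivedCategory ℬ, WSerre.cohIn A' Y →
      WSerre.cohIn A (F.mapDerivedCategory.obj Y) ∧ IsIso (adj.unit.app Y)) ∧
    (∀ X : DerivedCategory 𝒜, WSerre.cohIn A X →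
      WSerre.cohIn A' (R.obj X) ∧ IsIso (adj.counit.app X)) := by
  have hE := equivalence_cohInPlus F adj A A' h2a h2c h3
  have hcore := core' F adj A A' h2a h2c h3 hstab
  refine ⟨?_, ?_⟩
  · intro Y hY
    have hLY : WSerre.cohIn A (F.mapDerivedCategory.obj Y) := fun i =>
      A.prop_of_iso (Groth.Agent.H45.homologyMapDerivedCategoryObjIso F Y i).symm (h2a _ (hY i))
    refine ⟨hLY, ?_⟩
    rw [DerivedCategory.isIso_iff]
    intro j
    let n : ℕ := (-j).toNat
    have hj : -(n : ℤ) ≤ j := by omega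
    let p := CohCx.toTruncTower Y n
    have hnat : adj.unit.app Y ≫ R.map (F.mapDerivedCategory.map p) =
        p ≫ adj.unit.app (CohCx.truncTower Y n) := (adj.unit.naturality p).symm
    have h1 : IsIso ((homologyFunctor ℬ j).map p) :=
      Groth.Agent.H45.isIso_homologyMap_truncGEπ Y _ j hj
    have h2 : IsIso (adj.unit.app (CohCx.truncTower Y n)) :=
      (hE.1 _ (cohInPlus_truncTower A' Y hY n)).2
    obtain ⟨θ, hθ⟩ := exists_truncGE_iso F Y (-(n : ℤ))
    have h3' : IsIso ((homologyFunctor ℬ j).map (R.map (F.mapDerivedCategory.map p))) := by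
      have h4 := (hcore _ hLY).2 n j hj
      change IsIso ((homologyFunctor ℬ j).map (R.map (F.mapDerivedCategory.map
        ((TStructure.t.truncGEπ (-(n : ℤ))).app Y))))
      rw [← hθ, Functor.map_comp, Functor.map_comp]
      infer_instance
    have h5 : (homologyFunctor ℬ j).map (adj.unit.app Y) ≫
        (homologyFunctor ℬ j).map (R.map (F.mapDerivedCategory.map p)) =
        (homologyFunctor ℬ j).map p ≫
          (homologyFunctor ℬ j).map (adj.unit.app (CohCx.truncTower Y n)) := by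
      rw [← Functor.map_comp, ← Functor.map_comp, hnat]
    have h6 : IsIso ((homologyFunctor ℬ j).map (adj.unit.app Y) ≫
        (homologyFunctor ℬ j).map (R.map (F.mapDerivedCategory.map p))) := by
      rw [h5]; infer_instance
    exact IsIso.of_isIso_comp_right _ ((homologyFunctor ℬ j).map (R.map (F.mapDerivedCategory.map p)))
  · intro X hX
    refine ⟨(hcore X hX).1, ?_⟩
    rw [DerivedCategory.isIso_iff]
    intro j
    let n : ℕ := (-j).toNat
    have hj : -(n : ℤ) ≤ j := by omega
    let p := CohCx.toTruncTower X n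
    have hnat : F.mapDerivedCategory.map (R.map p) ≫ adj.counit.app (CohCx.truncTower X n) =
        adj.counit.app X ≫ p := adj.counit.naturality p
    have h1 : IsIso ((homologyFunctor 𝒜 j).map p) :=
      Groth.Agent.H45.isIso_homologyMap_truncGEπ X _ j hj
    have h2 : IsIso (adj.counit.app (CohCx.truncTower X n)) :=
      (hE.2 _ (cohInPlus_truncTower A X hX n)).2
    have h3' : IsIso ((homologyFunctor 𝒜 j).map (F.mapDerivedCategory.map (R.map p))) :=
      isIso_homologyMap_mapDerivedCategory F _ j ((hcore X hX).2 n j hj)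
    have h5 : (homologyFunctor 𝒜 j).map (F.mapDerivedCategory.map (R.map p)) ≫
        (homologyFunctor 𝒜 j).map (adj.counit.app (CohCx.truncTower X n)) =
        (homologyFunctor 𝒜 j).map (adj.counit.app X) ≫ (homologyFunctor 𝒜 j).map p := by
      rw [← Functor.map_comp, ← Functor.map_comp, hnat]
    have h6 : IsIso ((homologyFunctor 𝒜 j).map (adj.counit.app X) ≫
        (homologyFunctor 𝒜 j).map p) := by
      rw [← h5]; infer_instance
    exact IsIso.of_isIso_comp_right _ ((homologyFunctor 𝒜 j).map p)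

end Groth.Agent.H45.UEq
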