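import Groth.Agent.H45.Derived.IsoLocus
import Groth.Agent.H45.Derived.TruncHomology
import Mathlib.Algebra.Homology.DerivedCategory.FullyFaithful

/-!
# A way-out lemma for natural transformations between left t-exact triangulated functors

If `τ : G₁ ⟶ G₂` is a natural transformation (compatible with shifts) between triangulated functors
`D(𝒜) ⥤ D(ℬ)` which send `D^{≥ n}` to `D^{≥ n}`, and `X` is bounded below with `τ` an isomorphism on
each cohomology object of `X` (placed in degree `0`), then `τ` is an isomorphism on `X`.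
-/

open CategoryTheory Limits Pretriangulated

namespace Groth.Agent.H45

universe w₁ w₂ v₁ v₂ u₁ u₂

variable {𝒜 : Type u₁} [Category.{v₁} 𝒜] [Abelian 𝒜] [HasDerivedCategory.{w₁} 𝒜]
  {ℬ : Type u₂} [Category.{v₂} ℬ] [Abelian ℬ] [HasDerivedCategory.{w₂} ℬ]

open DerivedCategory

/-- A functor between derived categories is left t-exact if it preserves `D^{≥ n}` for all `n`. -/
def LeftTExact (G : DerivedCategory 𝒜 ⥤ DerivedCategory ℬ) : Prop :=
  ∀ (X : DerivedCategory 𝒜) (n : ℤ), X.IsGE n → (G.obj X).IsGE n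

variable {G₁ G₂ : DerivedCategory 𝒜 ⥤ DerivedCategory ℬ} [G₁.CommShift ℤ] [G₂.CommShift ℤ]
  [G₁.IsTriangulated] [G₂.IsTriangulated] (τ : G₁ ⟶ G₂) [NatTrans.CommShift τ ℤ]

/-- `τ` is an isomorphism on the object `M` of the heart placed in any degree. -/
def Good (M : 𝒜) : Prop := ∀ n : ℤ, IsIso (τ.app ((singleFunctor 𝒜 n).obj M))

omit [G₁.IsTriangulated] [G₂.IsTriangulated] in
lemma good_of_single_zero (M : 𝒜) (h : IsIso (τ.app ((singleFunctor 𝒜 0).obj M))) :
    Good τ M := by
  intro n
  have h' := isIso_app_shift τ _ (-n) h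
  exact isIso_app_of_iso τ (((singleFunctors 𝒜).shiftIso (-n) n 0 (by lia)).app M) h'

omit [NatTrans.CommShift τ ℤ] [G₁.CommShift ℤ] [G₂.CommShift ℤ] [G₁.IsTriangulated]
  [G₂.IsTriangulated] in
lemma Good.of_iso {M N : 𝒜} (e : M ≅ N) (h : Good τ M) : Good τ N :=
  fun n => isIso_app_of_iso τ ((singleFunctor 𝒜 n).mapIso e) (h n)

omit [NatTrans.CommShift τ ℤ] in
lemma good_of_isZero {M : 𝒜} (hM : IsZero M) : Good τ M :=
  fun n => isIso_app_of_isZero τ _ ((singleFunctor 𝒜 n).map_isZero hM)

/-- The bounded case of the way-out lemma, by induction on the cohomological amplitude. -/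
theorem isIso_app_of_bounded (k : ℕ) : ∀ (Z : DerivedCategory 𝒜) (a : ℤ), Z.IsGE a →
    Z.IsLE (a + k - 1) → (∀ q : ℤ, Good τ ((homologyFunctor 𝒜 q).obj Z)) → IsIso (τ.app Z) := by
  induction k with
  | zero =>
    intro Z a hGE hLE _
    exact isIso_app_of_isZero τ Z (TStructure.t.isZero Z (a + (0 : ℕ) - 1) a (by simp))
  | succ k ih =>
    intro Z a hGE hLE hZ
    let n : ℤ := a + k
    have hLE' : Z.IsLE n := by
      have : a + ((k + 1 : ℕ) : ℤ) - 1 = n := by simp only [n]; omega
      rw [← this]
      exact hLE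
    have hT := TStructure.t.triangleLTGE_distinguished n Z
    -- the first object
    have h₁ : IsIso (τ.app ((TStructure.t.truncLT n).obj Z)) := by
      apply ih _ a inferInstance
      · have : a + (k : ℤ) - 1 = n - 1 := by simp [n]
        rw [this]
        infer_instance
      · intro q
        by_cases hq : q < n
        · have := isIso_homologyMap_truncLTι Z n q hq
          exact (hZ q).of_iso τ
            (asIso ((homologyFunctor 𝒜 q).map ((TStructure.t.truncLTι n).app Z))).symm
        · apply good_of_isZero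
          exact isZero_of_isLE _ (n - 1) q (by lia)
    -- the third object
    have h₃ : IsIso (τ.app ((TStructure.t.truncGE n).obj Z)) := by
      obtain ⟨A, ⟨e⟩⟩ := exists_iso_singleFunctor_obj_of_isGE_of_isLE
        ((TStructure.t.truncGE n).obj Z) n
      have := isIso_homologyMap_truncGEπ Z n n le_rfl
      have eA : (homologyFunctor 𝒜 n).obj Z ≅ A :=
        asIso ((homologyFunctor 𝒜 n).map ((TStructure.t.truncGEπ n).app Z)) ≪≫
          (homologyFunctor 𝒜 n).mapIso e ≪≫ (singleFunctorCompHomologyFunctorIso 𝒜 n).app A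
      exact isIso_app_of_iso τ e.symm (((hZ n).of_iso τ eA) n)
    exact isIso_app_obj₂_of_distTriang τ _ hT h₁ h₃

/-- The way-out lemma: bounded below case. -/
theorem isIso_app_of_isGE (hG₁ : LeftTExact G₁) (hG₂ : LeftTExact G₂)
    (X : DerivedCategory 𝒜) (n₀ : ℤ) (hX : X.IsGE n₀)
    (h : ∀ q : ℤ, IsIso (τ.app ((singleFunctor 𝒜 0).obj ((homologyFunctor 𝒜 q).obj X)))) :
    IsIso (τ.app X) := by
  have hgood : ∀ q : ℤ, Good τ ((homologyFunctor 𝒜 q).obj X) :=
    fun q => good_of_single_zero τ _ (h q)
  rw [DerivedCategory.isIso_iff]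
  intro j
  let n : ℤ := j + 2
  have hT := TStructure.t.triangleLTGE_distinguished n X
  -- `τ` is an isomorphism on the truncation
  have h₁ : IsIso (τ.app ((TStructure.t.truncLT n).obj X)) := by
    obtain ⟨k, hk⟩ : ∃ k : ℕ, n - 1 ≤ n₀ + k - 1 := ⟨(n - n₀).toNat, by lia⟩
    apply isIso_app_of_bounded τ k _ n₀ inferInstance
    · exact TStructure.t.isLE_of_le _ (n - 1) _ hk
    · intro q
      by_cases hq : q < n
      · have := isIso_homologyMap_truncLTι X n q hq
        exact (hgood q).of_iso τ
          (asIso ((homologyFunctor 𝒜 q).map ((TStructure.t.truncLTι n).app X))).symm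
      · apply good_of_isZero
        exact isZero_of_isLE _ (n - 1) q (by lia)
  -- comparison of `H^j`
  have key : ∀ (G : DerivedCategory 𝒜 ⥤ DerivedCategory ℬ) [G.CommShift ℤ] [G.IsTriangulated],
      LeftTExact G → IsIso ((homologyFunctor ℬ j).map (G.map ((TStructure.t.truncLTι n).app X))) := by
    intro G _ _ hG
    have hGT := G.map_distinguished _ hT
    have : (G.obj ((TStructure.t.truncGE n).obj X)).IsGE n := hG _ n inferInstance
    exact isIso_homologyMap_mor₁ _ hGT (j - 1) j (by lia)
      (isZero_of_isGE (G.obj ((TStructure.t.truncGE n).obj X)) n (j - 1) (by lia))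
      (isZero_of_isGE (G.obj ((TStructure.t.truncGE n).obj X)) n j (by lia))
  have k₁ := key G₁ hG₁
  have k₂ := key G₂ hG₂
  have nat : (homologyFunctor ℬ j).map (G₁.map ((TStructure.t.truncLTι n).app X)) ≫
      (homologyFunctor ℬ j).map (τ.app X) =
      (homologyFunctor ℬ j).map (τ.app ((TStructure.t.truncLT n).obj X)) ≫
        (homologyFunctor ℬ j).map (G₂.map ((TStructure.t.truncLTι n).app X)) := by
    rw [← Functor.map_comp, ← Functor.map_comp]
    congr 1
    exact τ.naturality ((TStructure.t.truncLTι n).app X)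
  have : IsIso ((homologyFunctor ℬ j).map (G₁.map ((TStructure.t.truncLTι n).app X)) ≫
      (homologyFunctor ℬ j).map (τ.app X)) := by
    rw [nat]
    infer_instance
  exact IsIso.of_isIso_comp_left ((homologyFunctor ℬ j).map
    (G₁.map ((TStructure.t.truncLTι n).app X))) _

end Groth.Agent.H45
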